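import Cfsg.Agent.H474.GU.Cols
import Cfsg.Agent.H174.JordanExists

/-!
# S4537-A2a (helper474): nilpotent endomorphisms and their columns

* `similar_of_colOf` : the columns determine the similarity class;
* `exists_colOf` : all columns occur;
* `finrank_hom` : the dimension of the space of homomorphisms.
-/

set_option autoImplicit false

open Module

namespace Cfsg.Agent.H474.GU

open Cfsg.Agent.H615.GU Cfsg.Agent.H174 Cfsg.Agent.H474.GUN

variable {F V : Type*} [Field F] [AddCommGroup V] [Module F V] [Module.Finite F V]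

/-- the partition determines the similarity class -/
theorem similar_of_colOf {W : Type*} [AddCommGroup W] [Module F W] [Module.Finite F W] (T : V →ₗ[F] V) (S : W →ₗ[F] W)
    (hT : IsNilpotent T) (hS : IsNilpotent S) (h : colOf T = colOf S) :
    ∃ e : V ≃ₗ[F] W, ∀ v, e (T v) = S (e v) := by
  obtain ⟨s, hs, hTs⟩ := exists_isJT hT
  obtain ⟨s', hs', hSs⟩ := exists_isJT hS
  have hdim : finrank F V = finrank F W := by rw [← size_colOf hT, ← size_colOf hS, h]
  have hr : ∀ j, finrank F (LinearMap.range (T ^ j)) = finrank F (LinearMap.range (S ^ j)) := by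
    intro j
    have h1 := LinearMap.finrank_range_add_finrank_ker (T ^ j)
    have h2 := LinearMap.finrank_range_add_finrank_ker (S ^ j)
    rw [finrank_ker_eq_sum] at h1 h2
    rw [h] at h1
    omega
  have hss : s = s' := by
    ext j
    rcases Nat.eq_zero_or_pos j with rfl | hj
    · rw [Multiset.count_eq_zero.2 (fun h => (hs 0 h).false),
        Multiset.count_eq_zero.2 (fun h => (hs' 0 h).false)]
    · obtain ⟨i, rfl⟩ : ∃ i, j = i + 1 := ⟨j - 1, by omega⟩
      have h1 := hTs.count_eq i
      have h2 := hSs.count_eq i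
      rw [hr, hr, hr] at h1
      omega
  subst hss
  exact hTs.exists_equiv hSs

/-- the columns in terms of the block sizes -/
theorem colOf_eq_card {ι : Type*} [Fintype ι] {d : ι → ℕ} {T : V →ₗ[F] V}
    {b : Basis ((k : ι) × Fin (d k)) F V} (hb : IsJB T b) (i : ℕ) :
    colOf T i = ∑ k, (if i < d k then 1 else 0) := by
  classical
  have h1 := LinearMap.finrank_range_add_finrank_ker (T ^ i)
  have h2 := LinearMap.finrank_range_add_finrank_ker (T ^ (i + 1))
  have h3 := colOf_add T i
  rw [hb.finrank_range_pow] at h1 h2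
  have h4 : ∑ k, (d k - i) = ∑ k, (d k - (i + 1)) + ∑ k, (if i < d k then 1 else 0) := by
    rw [← Finset.sum_add_distrib]
    refine Finset.sum_congr rfl fun k _ => ?_
    split_ifs with h <;> omega
  omega

/-- the dimension of the space of homomorphisms -/
theorem finrank_hom {W : Type*} [AddCommGroup W] [Module F W] [Module.Finite F W] (T : V →ₗ[F] V) (S : W →ₗ[F] W)
    (hT : IsNilpotent T) (_hS : IsNilpotent S) (H : Submodule F (V →ₗ[F] W))
    (hH : ∀ f, f ∈ H ↔ f.comp T = S.comp f) : finrank F H = (colOf T).ip (colOf S) := by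
  classical
  obtain ⟨s, hs, ι, hι, d, b, hb, rfl⟩ := exists_isJT hT
  have hd : ∀ k, 0 < d k := fun k => hs _ (Multiset.mem_map_of_mem _ (Finset.mem_univ_val k))
  have hcomm : ∀ f ∈ H, ∀ (n : ℕ) (v : V), f ((T ^ n) v) = (S ^ n) (f v) := by
    intro f hf n
    induction n with
    | zero => intro v; rfl
    | succ n ih =>
      intro v
      rw [pow_succ, Module.End.mul_apply, ih, pow_succ, Module.End.mul_apply]
      exact congrArg _ (LinearMap.congr_fun ((hH f).1 hf) v)
  have hbpow : ∀ (k : ι) (i : Fin (d k)), b ⟨k, i⟩ = (T ^ (i : ℕ)) (b ⟨k, ⟨0, hd k⟩⟩) := by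
    intro k i
    rw [hb.pow_apply, dif_pos (by simp)]
    congr 3
    simp
  -- the evaluation at the first vectors of the blocks
  let Φ : H →ₗ[F] (∀ k : ι, LinearMap.ker (S ^ (d k))) := LinearMap.pi fun k =>
    LinearMap.codRestrict _ ((LinearMap.applyₗ (b ⟨k, ⟨0, hd k⟩⟩)).comp H.subtype) (by
      intro f
      rw [LinearMap.mem_ker]
      change (S ^ d k) (f.1 (b ⟨k, ⟨0, hd k⟩⟩)) = 0
      rw [← hcomm f.1 f.2, hb.pow_apply, dif_neg (by simp), map_zero])
  have hΦ : ∀ (f : H) (k : ι), ((Φ f k : LinearMap.ker (S ^ (d k))) : W) = f.1 (b ⟨k, ⟨0, hd k⟩⟩) := fun f k => rfl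
  have hinj : Function.Injective Φ := by
    intro f g hfg
    apply Subtype.ext
    apply b.ext
    rintro ⟨k, i⟩
    rw [hbpow, hcomm f.1 f.2, hcomm g.1 g.2, ← hΦ, ← hΦ, hfg]
  have hsurj : Function.Surjective Φ := by
    intro w
    let f : V →ₗ[F] W := b.constr F fun p => (S ^ (p.2 : ℕ)) (w p.1 : W)
    have hf : ∀ (k : ι) (i : Fin (d k)), f (b ⟨k, i⟩) = (S ^ (i : ℕ)) (w k : W) := fun k i => by
      simp only [f, Basis.constr_basis]
    have hfH : f ∈ H := by
      rw [hH]
      apply b.ext
      rintro ⟨k, i⟩
      rw [LinearMap.comp_apply, LinearMap.comp_apply, hb k i, hf]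
      split_ifs with h
      · rw [hf, pow_succ', Module.End.mul_apply]
      · have hw := (w k).2
        rw [LinearMap.mem_ker] at hw
        rw [map_zero, ← Module.End.mul_apply, ← pow_succ']
        have hi : (i : ℕ) + 1 = d k := by omega
        rw [hi, hw]
    refine ⟨⟨f, hfH⟩, ?_⟩
    funext k
    apply Subtype.ext
    rw [hΦ]
    change f (b ⟨k, ⟨0, hd k⟩⟩) = _
    rw [hf]
    rfl
  rw [(LinearEquiv.ofBijective Φ ⟨hinj, hsurj⟩).finrank_eq, Module.finrank_pi_fintype]
  have hsz : ∀ k, d k ≤ (colOf T).size := by
    intro k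
    by_contra hk
    have h1 := colOf_eq_card hb (colOf T).size
    rw [Col.apply_size] at h1
    have h2 := (Finset.sum_eq_zero_iff.1 h1.symm) k (Finset.mem_univ k)
    rw [if_pos (not_le.1 hk)] at h2
    exact one_ne_zero h2
  have h1 : ∀ k, finrank F (LinearMap.ker (S ^ d k)) =
      ∑ i ∈ Finset.range (colOf T).size, (if i < d k then 1 else 0) * colOf S i := by
    intro k
    rw [finrank_ker_eq_sum]
    have : Finset.range (d k) = (Finset.range (colOf T).size).filter (fun i => i < d k) := by
      ext i
      have := hsz k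
      simp only [Finset.mem_range, Finset.mem_filter]
      omega
    rw [this, Finset.sum_filter]
    refine Finset.sum_congr rfl fun i _ => ?_
    split_ifs <;> simp
  rw [Finset.sum_congr rfl fun k _ => h1 k, Finset.sum_comm]
  have h2 : (colOf T).ip (colOf S) = ∑ i ∈ Finset.range (colOf T).size, colOf T i * colOf S i := by
    unfold Col.ip
    rw [Finsupp.sum]
    refine Finset.sum_subset ?_ ?_
    · intro i hi
      rw [Finset.mem_range]
      by_contra hcon
      exact (Finsupp.mem_support_iff.1 hi) (Col.apply_of_size_le (not_lt.1 hcon))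
    · intro i _ hi
      have : colOf T i = 0 := Finsupp.notMem_support_iff.1 hi
      rw [this, Nat.zero_mul]
  rw [h2]
  refine Finset.sum_congr rfl fun i _ => ?_
  rw [← Finset.sum_mul, ← colOf_eq_card hb]

/-! ## the model -/

/-- the boxes of a partition -/
structure Box (l : Col) where
  /-- the column -/
  col : ℕ
  /-- the row -/
  row : ℕ
  lt : row < l col

theorem Box.ext' {l : Col} {p q : Box l} (h1 : p.col = q.col) (h2 : p.row = q.row) : p = q := by
  cases p
  cases q
  subst h1
  subst h2
  rfl

/-- boxes as a sigma type -/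
def boxEquiv (l : Col) : Box l ≃ Σ i : Fin l.size, Fin (l i) where
  toFun p := ⟨⟨p.col, by
    by_contra h
    have h1 := Col.apply_of_size_le (l := l) (not_lt.1 h)
    have h2 := p.lt
    omega⟩, ⟨p.row, p.lt⟩⟩
  invFun x := ⟨x.1, x.2, x.2.2⟩
  left_inv _ := rfl
  right_inv _ := rfl

noncomputable instance (l : Col) : Fintype (Box l) := Fintype.ofEquiv _ (boxEquiv l).symm

theorem card_box (l : Col) : Fintype.card (Box l) = l.size := by
  rw [Fintype.card_congr (boxEquiv l), Fintype.card_sigma]
  simp only [Fintype.card_fin]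
  exact (Finset.sum_range (fun i => l i)).symm.trans (Col.size_eq_sum_range le_rfl).symm

open scoped Classical in
/-- the shift on functions on the boxes -/
noncomputable def shiftFun {F : Type*} [Field F] (l : Col) (n : ℕ) (f : Box l → F) (p : Box l) : F :=
  if h : p.row < l (p.col + n) then f ⟨p.col + n, p.row, h⟩ else 0

/-- the shift on functions on the boxes -/
noncomputable def shift (F : Type*) [Field F] (l : Col) : (Box l → F) →ₗ[F] (Box l → F) where
  toFun := shiftFun l 1
  map_add' := fun f g => by
    funext p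
    rw [Pi.add_apply]
    unfold shiftFun
    split_ifs
    · rfl
    · exact (add_zero _).symm
  map_smul' := fun c f => by
    funext p
    rw [Pi.smul_apply]
    unfold shiftFun
    split_ifs
    · rfl
    · exact (smul_zero _).symm

theorem shift_apply {F : Type*} [Field F] (l : Col) (f : Box l → F) : shift F l f = shiftFun l 1 f := rfl

theorem shift_pow_apply {F : Type*} [Field F] (l : Col) (n : ℕ) (f : Box l → F) (p : Box l) :
    (shift F l ^ n) f p = shiftFun l n f p := by
  induction n generalizing p with
  | zero =>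
    unfold shiftFun
    rw [pow_zero, dif_pos (show p.row < l (p.col + 0) from p.lt)]
    rfl
  | succ n ih =>
    rw [pow_succ', Module.End.mul_apply, shift_apply]
    unfold shiftFun
    by_cases h : p.row < l (p.col + 1)
    · rw [dif_pos h, ih]
      unfold shiftFun
      have e : p.col + 1 + n = p.col + (n + 1) := by omega
      by_cases h2 : p.row < l (p.col + 1 + n)
      · rw [dif_pos h2, dif_pos (by rw [← e]; exact h2)]
        exact congrArg f (Box.ext' e rfl)
      · rw [dif_neg h2, dif_neg (by rw [← e]; exact h2)]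
    · rw [dif_neg h, dif_neg]
      intro h2
      exact h (h2.trans_le (l.anti (by omega)))

theorem mem_ker_shift {F : Type*} [Field F] (l : Col) (n : ℕ) (f : Box l → F) :
    f ∈ LinearMap.ker (shift F l ^ n) ↔ ∀ p : Box l, n ≤ p.col → f p = 0 := by
  rw [LinearMap.mem_ker]
  constructor
  · intro h p hp
    have e : p.col - n + n = p.col := Nat.sub_add_cancel hp
    obtain ⟨q, hq1, hq2⟩ : ∃ q : Box l, q.col + n = p.col ∧ q.row = p.row :=
      ⟨⟨p.col - n, p.row, p.lt.trans_le (l.anti (Nat.sub_le _ _))⟩, e, rfl⟩
    have h1 : (shift F l ^ n) f q = 0 := by rw [h]; rfl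
    rw [shift_pow_apply] at h1
    unfold shiftFun at h1
    rw [dif_pos (by rw [hq1, hq2]; exact p.lt)] at h1
    rw [← h1]
    exact congrArg f (Box.ext' hq1.symm hq2.symm)
  · intro h
    funext p
    rw [shift_pow_apply]
    unfold shiftFun
    split_ifs with h2
    · exact h _ (Nat.le_add_left _ _)
    · rfl

theorem finrank_ker_shift {F : Type*} [Field F] (l : Col) (n : ℕ) :
    finrank F (LinearMap.ker (shift F l ^ n)) = ∑ i ∈ Finset.range n, l i := by
  classical
  let A : Type := {p : Box l // p.col < n}
  let e : LinearMap.ker (shift F l ^ n) ≃ₗ[F] (A → F) :=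
    { toFun := fun f a => f.1 a.1
      map_add' := fun _ _ => rfl
      map_smul' := fun _ _ => rfl
      invFun := fun g => ⟨fun p => if h : p.col < n then g ⟨p, h⟩ else 0, by
        rw [mem_ker_shift]
        intro p hp
        rw [dif_neg (not_lt.2 hp)]⟩
      left_inv := fun f => by
        apply Subtype.ext
        funext p
        change (if h : p.col < n then f.1 p else 0) = f.1 p
        split_ifs with h
        · rfl
        · exact ((mem_ker_shift _ _ _).1 f.2 p (not_lt.1 h)).symm
      right_inv := fun g => by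
        funext a
        change (if h : a.1.col < n then g ⟨a.1, h⟩ else 0) = g a
        rw [dif_pos a.2] }
  rw [e.finrank_eq, Module.finrank_fintype_fun_eq_card]
  let e2 : A ≃ Σ i : Fin n, Fin (l i) :=
    { toFun := fun a => ⟨⟨a.1.col, a.2⟩, ⟨a.1.row, a.1.lt⟩⟩
      invFun := fun x => ⟨⟨x.1, x.2, x.2.2⟩, x.1.2⟩
      left_inv := fun _ => rfl
      right_inv := fun _ => rfl }
  rw [Fintype.card_congr e2, Fintype.card_sigma]
  simp only [Fintype.card_fin]
  exact (Finset.sum_range (fun i => l i)).symm

theorem colOf_shift (F : Type*) [Field F] (l : Col) : colOf (shift F l) = l := by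
  ext i
  have h1 := colOf_add (shift F l) i
  rw [finrank_ker_shift, finrank_ker_shift, Finset.sum_range_succ] at h1
  omega

theorem isNilpotent_shift (F : Type*) [Field F] (l : Col) : IsNilpotent (shift F l) := by
  refine ⟨l.size, ?_⟩
  apply LinearMap.ext
  intro f
  funext p
  rw [shift_pow_apply]
  unfold shiftFun
  rw [dif_neg]
  · rfl
  · rw [Col.apply_of_size_le (Nat.le_add_left _ _)]
    exact Nat.not_lt_zero _

/-- every partition occurs -/
theorem exists_colOf (F : Type*) [Field F] (l : Col) :
    ∃ T : (Fin l.size → F) →ₗ[F] (Fin l.size → F), IsNilpotent T ∧ colOf T = l := by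
  classical
  let e : (Box l → F) ≃ₗ[F] (Fin l.size → F) :=
    LinearEquiv.funCongrLeft F F (Fintype.equivFinOfCardEq (card_box l)).symm
  refine ⟨(e.toLinearMap.comp (shift F l)).comp e.symm.toLinearMap, ?_, ?_⟩
  · obtain ⟨N, hN⟩ := isNilpotent_shift F l
    refine ⟨N, ?_⟩
    have hp : ∀ (n : ℕ), ((e.toLinearMap.comp (shift F l)).comp e.symm.toLinearMap) ^ n =
        (e.toLinearMap.comp (shift F l ^ n)).comp e.symm.toLinearMap := by
      intro n
      induction n with
      | zero =>
        apply LinearMap.ext
        intro v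
        change v = e (e.symm v)
        rw [e.apply_symm_apply]
      | succ n ih =>
        rw [pow_succ, ih, pow_succ]
        apply LinearMap.ext
        intro v
        change e ((shift F l ^ n) (e.symm (e ((shift F l) (e.symm v))))) = e ((shift F l ^ n * shift F l) (e.symm v))
        rw [e.symm_apply_apply]
        rfl
    rw [hp, hN]
    apply LinearMap.ext
    intro v
    change e 0 = 0
    rw [map_zero]
  · refine Eq.trans (colOf_congr e fun v => ?_).symm (colOf_shift F l)
    change e (shift F l v) = e (shift F l (e.symm (e v)))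
    rw [e.symm_apply_apply]

end Cfsg.Agent.H474.GU
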