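import Cfsg.Agent.H615.GU.Col

/-!
# S4537-A2a (helper474): the columns of a nilpotent endomorphism

`colOf T` : `i ↦ dim ker T^(i+1) - dim ker T^i`.
-/

set_option autoImplicit false

open Module

namespace Cfsg.Agent.H474.GU

open Cfsg.Agent.H615.GU

universe u

variable {F : Type u} [Field F] {V : Type u} [AddCommGroup V] [Module F V]

theorem ker_le_succ (T : V →ₗ[F] V) (i : ℕ) : LinearMap.ker (T ^ i) ≤ LinearMap.ker (T ^ (i + 1)) := by
  intro v hv
  rw [LinearMap.mem_ker] at hv ⊢
  rw [pow_succ', Module.End.mul_apply, hv, map_zero]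

theorem finrank_ker_le_succ [Module.Finite F V] (T : V →ₗ[F] V) (i : ℕ) :
    finrank F (LinearMap.ker (T ^ i)) ≤ finrank F (LinearMap.ker (T ^ (i + 1))) :=
  Submodule.finrank_mono (ker_le_succ T i)

theorem ker_stable [Module.Finite F V] (T : V →ₗ[F] V) {i : ℕ} (hi : finrank F V ≤ i) :
    LinearMap.ker (T ^ (i + 1)) = LinearMap.ker (T ^ i) := by
  have h1 := Module.End.ker_pow_eq_ker_pow_finrank_of_le (f := T) hi
  have h2 := Module.End.ker_pow_eq_ker_pow_finrank_of_le (f := T) (m := i + 1) (by omega)
  rw [h1, h2]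

/-- the jumps of the kernel dimensions decrease -/
theorem finrank_ker_concave [Module.Finite F V] (T : V →ₗ[F] V) (i : ℕ) :
    finrank F (LinearMap.ker (T ^ (i + 2))) + finrank F (LinearMap.ker (T ^ i)) ≤
      finrank F (LinearMap.ker (T ^ (i + 1))) + finrank F (LinearMap.ker (T ^ (i + 1))) := by
  set K0 := LinearMap.ker (T ^ i) with hK0
  set K1 := LinearMap.ker (T ^ (i + 1)) with hK1
  set K2 := LinearMap.ker (T ^ (i + 2)) with hK2
  -- the map `K2 → V / K0`
  let g : V →ₗ[F] V ⧸ K0 := K0.mkQ.comp T
  have hker : LinearMap.ker g = K1 := by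
    ext v
    rw [LinearMap.mem_ker, LinearMap.comp_apply, Submodule.mkQ_apply, Submodule.Quotient.mk_eq_zero, hK0, hK1,
      LinearMap.mem_ker, LinearMap.mem_ker, pow_succ, Module.End.mul_apply]
  have h1 := LinearMap.finrank_range_add_finrank_ker (g.domRestrict K2)
  have h2 : finrank F (LinearMap.ker (g.domRestrict K2)) = finrank F K1 := by
    have hle : K1 ≤ K2 := ker_le_succ T (i + 1)
    have : LinearMap.ker (g.domRestrict K2) = K1.comap K2.subtype := by
      rw [LinearMap.domRestrict, LinearMap.ker_comp, hker]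
    rw [this]
    exact (Submodule.comapSubtypeEquivOfLe hle).finrank_eq
  have h3 : LinearMap.range (g.domRestrict K2) ≤ K1.map K0.mkQ := by
    rintro _ ⟨⟨v, hv⟩, rfl⟩
    refine ⟨T v, ?_, rfl⟩
    rw [SetLike.mem_coe, hK1, LinearMap.mem_ker, ← Module.End.mul_apply, ← pow_succ]
    exact LinearMap.mem_ker.1 hv
  have h4 : finrank F (K1.map K0.mkQ) + finrank F K0 = finrank F K1 := by
    have h5 := LinearMap.finrank_range_add_finrank_ker (K0.mkQ.domRestrict K1)
    have h6 : LinearMap.range (K0.mkQ.domRestrict K1) = K1.map K0.mkQ := by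
      rw [LinearMap.domRestrict, LinearMap.range_comp, Submodule.range_subtype]
    have h7 : finrank F (LinearMap.ker (K0.mkQ.domRestrict K1)) = finrank F K0 := by
      have hle : K0 ≤ K1 := ker_le_succ T i
      have : LinearMap.ker (K0.mkQ.domRestrict K1) = K0.comap K1.subtype := by
        rw [LinearMap.domRestrict, LinearMap.ker_comp, Submodule.ker_mkQ]
      rw [this]
      exact (Submodule.comapSubtypeEquivOfLe hle).finrank_eq
    rw [h6, h7] at h5
    exact h5
  have h8 := Submodule.finrank_mono h3
  omega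

theorem colOf_finite [Module.Finite F V] (T : V →ₗ[F] V) :
    (Function.support fun i : ℕ => finrank F (LinearMap.ker (T ^ (i + 1))) - finrank F (LinearMap.ker (T ^ i))).Finite := by
  refine (Finset.range (finrank F V)).finite_toSet.subset ?_
  intro i hi
  rw [Finset.mem_coe, Finset.mem_range]
  by_contra h
  rw [Function.mem_support] at hi
  exact hi (by rw [ker_stable T (not_lt.1 h), Nat.sub_self])

theorem colOf_antitone [Module.Finite F V] (T : V →ₗ[F] V) :
    Antitone fun i : ℕ => finrank F (LinearMap.ker (T ^ (i + 1))) - finrank F (LinearMap.ker (T ^ i)) := by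
  refine antitone_nat_of_succ_le fun i => ?_
  have h1 := finrank_ker_concave T i
  have h2 := finrank_ker_le_succ T i
  have h3 := finrank_ker_le_succ T (i + 1)
  show finrank F (LinearMap.ker (T ^ (i + 2))) - finrank F (LinearMap.ker (T ^ (i + 1))) ≤
    finrank F (LinearMap.ker (T ^ (i + 1))) - finrank F (LinearMap.ker (T ^ i))
  omega

/-- the columns of an endomorphism at the eigenvalue `0` -/
noncomputable def colOf [Module.Finite F V] (T : V →ₗ[F] V) : Col :=
  ⟨Finsupp.ofSupportFinite (fun i => finrank F (LinearMap.ker (T ^ (i + 1))) - finrank F (LinearMap.ker (T ^ i)))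
    (colOf_finite T), colOf_antitone T⟩

theorem colOf_apply [Module.Finite F V] (T : V →ₗ[F] V) (i : ℕ) :
    colOf T i = finrank F (LinearMap.ker (T ^ (i + 1))) - finrank F (LinearMap.ker (T ^ i)) := rfl

theorem finrank_ker_eq_sum [Module.Finite F V] (T : V →ₗ[F] V) (n : ℕ) :
    finrank F (LinearMap.ker (T ^ n)) = ∑ i ∈ Finset.range n, colOf T i := by
  induction n with
  | zero =>
    rw [pow_zero, Finset.range_zero, Finset.sum_empty]
    have : LinearMap.ker (1 : V →ₗ[F] V) = ⊥ := LinearMap.ker_eq_bot.2 fun _ _ h => h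
    rw [this, finrank_bot]
  | succ n ih =>
    rw [Finset.sum_range_succ, ← ih, colOf_apply]
    have := finrank_ker_le_succ T n
    omega

/-- the size is the dimension -/
theorem size_colOf [Module.Finite F V] {T : V →ₗ[F] V} (hT : IsNilpotent T) : (colOf T).size = finrank F V := by
  obtain ⟨N, hN⟩ := hT
  have hM : T ^ (max N (colOf T).size) = 0 := pow_eq_zero_of_le (le_max_left _ _) hN
  rw [Col.size_eq_sum_range (le_max_right N (colOf T).size), ← finrank_ker_eq_sum, hM, LinearMap.ker_zero, finrank_top]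

/-- equivalent endomorphisms have the same columns -/
theorem colOf_congr [Module.Finite F V] {W : Type u} [AddCommGroup W] [Module F W] [Module.Finite F W]
    {T : V →ₗ[F] V} {S : W →ₗ[F] W} (e : V ≃ₗ[F] W) (h : ∀ v, e (T v) = S (e v)) : colOf T = colOf S := by
  have hp : ∀ (n : ℕ) (v : V), e ((T ^ n) v) = (S ^ n) (e v) := by
    intro n
    induction n with
    | zero => intro v; rfl
    | succ n ih =>
      intro v
      rw [pow_succ, Module.End.mul_apply, ih, h, pow_succ, Module.End.mul_apply]
  have hk : ∀ n : ℕ, finrank F (LinearMap.ker (T ^ n)) = finrank F (LinearMap.ker (S ^ n)) := by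
    intro n
    refine LinearEquiv.finrank_eq (e.submoduleMap (LinearMap.ker (T ^ n)) ≪≫ₗ LinearEquiv.ofEq _ _ ?_)
    ext w
    rw [Submodule.mem_map, LinearMap.mem_ker]
    constructor
    · rintro ⟨v, hv, rfl⟩
      have := hp n v
      rw [LinearMap.mem_ker.1 hv, map_zero] at this
      exact this.symm
    · intro hw
      refine ⟨e.symm w, ?_, e.apply_symm_apply w⟩
      rw [LinearMap.mem_ker]
      apply e.injective
      rw [hp, map_zero, e.apply_symm_apply, hw]
  ext i
  rw [colOf_apply, colOf_apply, hk, hk]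

end Cfsg.Agent.H474.GU
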