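import Cfsg.Agent.H615.GU.ColOf

/-!
# S4537-A2a (helper474): first facts on the columns of an endomorphism
-/

set_option autoImplicit false

open Module

namespace Cfsg.Agent.H474.GUN

open Cfsg.Agent.H615.GU

variable {F V : Type*} [Field F] [AddCommGroup V] [Module F V] [Module.Finite F V]

theorem finrank_ker_eq_sum (T : V →ₗ[F] V) (n : ℕ) :
    finrank F (LinearMap.ker (T ^ n)) = ∑ i ∈ Finset.range n, colOf T i := by
  induction n with
  | zero =>
    rw [pow_zero, Finset.range_zero, Finset.sum_empty]
    have : LinearMap.ker (1 : V →ₗ[F] V) = ⊥ := LinearMap.ker_eq_bot.2 fun _ _ h => h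
    rw [this, finrank_bot]
  | succ n ih =>
    rw [Finset.sum_range_succ, ← ih, ← colOf_add T n]
    exact Nat.add_comm _ _

/-- the size is the dimension -/
theorem size_colOf {T : V →ₗ[F] V} (hT : IsNilpotent T) : (colOf T).size = finrank F V := by
  obtain ⟨N, hN⟩ := hT
  have hM : T ^ (max N (colOf T).size) = 0 := pow_eq_zero_of_le (le_max_left _ _) hN
  rw [Col.size_eq_sum_range (le_max_right N (colOf T).size), ← finrank_ker_eq_sum, hM, LinearMap.ker_zero, finrank_top]

/-- endomorphisms with the same kernel dimensions have the same columns -/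
theorem colOf_eq_of_ker {W : Type*} [AddCommGroup W] [Module F W] [Module.Finite F W]
    {T : V →ₗ[F] V} {S : W →ₗ[F] W}
    (hk : ∀ n : ℕ, finrank F (LinearMap.ker (T ^ n)) = finrank F (LinearMap.ker (S ^ n))) : colOf T = colOf S := by
  ext i
  have h1 := colOf_add T i
  have h2 := colOf_add S i
  have h3 := hk i
  have h4 := hk (i + 1)
  omega

/-- equivalent endomorphisms have the same columns -/
theorem colOf_congr {W : Type*} [AddCommGroup W] [Module F W] [Module.Finite F W]
    {T : V →ₗ[F] V} {S : W →ₗ[F] W} (e : V ≃ₗ[F] W) (h : ∀ v, e (T v) = S (e v)) : colOf T = colOf S := by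
  have hp : ∀ (n : ℕ) (v : V), e ((T ^ n) v) = (S ^ n) (e v) := by
    intro n
    induction n with
    | zero => intro v; rfl
    | succ n ih =>
      intro v
      rw [pow_succ, Module.End.mul_apply, ih, h, pow_succ, Module.End.mul_apply]
  refine colOf_eq_of_ker fun n => ?_
  refine LinearEquiv.finrank_eq (e.submoduleMap (LinearMap.ker (T ^ n)) ≪≫ₗ LinearEquiv.ofEq _ _ ?_)
  ext w
  rw [Submodule.mem_map, LinearMap.mem_ker]
  constructor
  · rintro ⟨v, hv, rfl⟩
    have := hp n v
    rw [LinearMap.mem_ker.1 hv, map_zero] at this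
    exact this.symm
  · intro hw
    refine ⟨e.symm w, ?_, e.apply_symm_apply w⟩
    rw [LinearMap.mem_ker]
    apply e.injective
    rw [hp, map_zero, e.apply_symm_apply, hw]

end Cfsg.Agent.H474.GUN
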